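import Mathlib
import Cfsg.Agent.P8.Fam

/-! P8-Flt: root filtrations of a family with commutator relations -/

set_option autoImplicit false
set_option linter.unusedSectionVars false

namespace Cfsg.Agent.P8

open Cfsg Cfsg.Lie Cfsg.Agent.Loc.Mss Subgroup
open Cfsg.Agent.StdB (C1 mem_C1)
open scoped commutatorElement

variable {G : Type*} [Group G] [Finite G]

variable {X : Rt → Subgroup G} {x : Rt → G} {cm : Rt → Rt → List Rt} {p q m T S J I : Rt → Prop} {f : Rt → ℤ}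
  {w : ℤ × ℤ × ℤ × ℤ}

theorem Flt.xx (h : Rel X cm) (a : Ac cm p q m) {r s : Rt} (hr : p r) (hs : q s) : ⁅X r, X s⁆ ≤ GS X m :=
  (h.rel r s (a r s hr hs).1).trans (GS_mono X (a r s hr hs).2)

theorem Flt.comm_GS {M : Subgroup G} (hp : GS X p ≤ 𝐍[M]) (hq : GS X q ≤ 𝐍[M])
    (h : ∀ r s, p r → q s → ⁅X r, X s⁆ ≤ M) : ⁅GS X p, GS X q⁆ ≤ M := by
  refine (le_cmod.1 (GS_le.2 fun s hs => le_cmod.2 ⟨(le_GS X hs).trans hq, ?_⟩)).2
  rw [Subgroup.commutator_comm]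
  refine (le_cmod.1 (GS_le.2 fun r hr => le_cmod.2 ⟨(le_GS X hr).trans hp, ?_⟩)).2
  rw [Subgroup.commutator_comm]
  exact h r s hr hs

theorem Flt.c_ng : ∀ r, c1 (ng r) = -c1 r ∧ c2 (ng r) = -c2 r ∧ c3 (ng r) = -c3 r ∧ c4 (ng r) = -c4 r := by
  decide +kernel

theorem Flt.fw_ng (w : ℤ × ℤ × ℤ × ℤ) (r : Rt) : fw w (ng r) = -fw w r := by
  obtain ⟨h1, h2, h3, h4⟩ := Flt.c_ng r
  unfold fw
  rw [h1, h2, h3, h4]
  ring

theorem Flt.add_le (h : Rel X cm) {r s u : Rt} (hr : 0 < fw w r) (hs : 0 < fw w s) (hu : u ∈ cm r s) :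
    fw w r + fw w s ≤ fw w u := by
  rcases h.sub r s with e | e <;> rw [e] at hu
  · exact absurd hu List.not_mem_nil
  · rcases fw_cm2 w hr hs hu with k | k
    exacts [k.2.ge, k.2.le]

theorem Flt.bd (f : Rt → ℤ) : ∃ a b, ∀ r, a ≤ f r ∧ f r < b := by
  obtain ⟨a, ha⟩ := Finite.exists_min f
  obtain ⟨b, hb⟩ := Finite.exists_max f
  exact ⟨f a, f b + 1, fun r => ⟨ha r, Int.lt_add_one_of_le (hb r)⟩⟩

open Flt

theorem Rel.norm (h : Rel X cm) (a : Ac cm p q q) : GS X p ≤ 𝐍[GS X q] :=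
  GS_le.2 fun r hr => norm_of_forall_cj_le fun g hg => by
    rw [cj_GS]
    refine GS_le.2 fun s hs => cj_le_iff.2 fun y hy => ?_
    rw [show g * y * g⁻¹ = ⁅g, y⁆ * y by rw [commutatorElement_def]; group]
    exact mul_mem (xx h a hr hs (commutator_mem_commutator hg hy)) (le_GS X hs hy)

theorem Rel.comm (h : Rel X cm) (a : Ac cm p q m) (a1 : Ac cm p m m) (a2 : Ac cm q m m) :
    ⁅GS X p, GS X q⁆ ≤ GS X m := comm_GS (h.norm a1) (h.norm a2) fun _ _ => xx h a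

theorem Rel.cent (h : Rel X cm) (a : Ac cm p q fun _ => False) : GS X p ≤ 𝐂[GS X q] :=
  comm_eq_bot_iff.1 (le_bot_iff.1 ((h.comm a (fun _ _ _ => False.elim) fun _ _ _ => False.elim).trans
    (GS_eq_bot X fun _ => id).le))

/-- Use `fw_cm2`; `fw w (ng r) = - fw w r`. -/
theorem Rel.wt (h : Rel X cm) (c : Ch cm T w) : Wt cm T (fw w) := fun r s hr hs => by
  have h1 := c.2.1 r hr
  have h2 := c.2.1 s hs
  refine ⟨fun e => ?_, fun u hu => ?_⟩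
  · rw [e, fw_ng] at h2
    omega
  · have := add_le h h1 h2 hu
    exact ⟨c.2.2 r s hr hs u hu, by omega, by omega⟩

/-- The whole positive chamber is closed. -/
theorem Rel.ch_pos (h : Rel X cm) (g : Gen w) : Ch cm (fun r => 0 < fw w r) w :=
  ⟨g, fun _ => id, fun r s hr hs u hu => by
    have := add_le h hr hs hu
    show 0 < fw w u
    omega⟩

theorem FF_anti (X : Rt → Subgroup G) (T : Rt → Prop) (f : Rt → ℤ) {a b : ℤ} (h : a ≤ b) : FF X T f b ≤ FF X T f a :=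
  GS_mono X fun _ hr => ⟨hr.1, h.trans hr.2⟩

theorem FF_le (X : Rt → Subgroup G) (T : Rt → Prop) (f : Rt → ℤ) (a : ℤ) : FF X T f a ≤ GS X T :=
  GS_mono X fun _ hr => hr.1

theorem Flt.le_FF {r : Rt} (hr : T r) : X r ≤ FF X T f (f r) := le_GS X (p := fun s => T s ∧ f r ≤ f s) ⟨hr, le_rfl⟩

theorem Flt.FF_top (X : Rt → Subgroup G) (T : Rt → Prop) (f : Rt → ℤ) : ∃ a, GS X T ≤ FF X T f a := by
  obtain ⟨a, b, h⟩ := bd f
  exact ⟨a, GS_mono X fun r hr => ⟨hr, (h r).1⟩⟩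

theorem Flt.FF_bot (X : Rt → Subgroup G) (T : Rt → Prop) (f : Rt → ℤ) : ∃ b, ∀ n, b ≤ n → FF X T f n = ⊥ := by
  obtain ⟨a, b, h⟩ := bd f
  exact ⟨b, fun n hn => GS_eq_bot X fun r hr => by have := (h r).2; have := hr.2; omega⟩

theorem Flt.FF_pos (c : Ch cm T w) (n : ℤ) : FF X T (fw w) n ≤ FF X (fun r => 0 < fw w r) (fw w) n :=
  GS_mono X fun r hr => ⟨c.2.1 r hr.1, hr.2⟩

theorem Rel.FF_norm (h : Rel X cm) (c : Wt cm T f) (n : ℤ) : GS X T ≤ 𝐍[FF X T f n] :=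
  h.norm fun r s hr hs => ⟨(c r s hr hs.1).1, fun u hu =>
    ⟨((c r s hr hs.1).2 u hu).1, hs.2.trans ((c r s hr hs.1).2 u hu).2.2.le⟩⟩

theorem Rel.FF_comm (h : Rel X cm) (c : Wt cm T f) (n : ℤ) : ⁅GS X T, FF X T f n⁆ ≤ FF X T f (n + 1) :=
  comm_GS (h.FF_norm c _) ((FF_le X T f n).trans (h.FF_norm c _)) fun _ _ =>
    xx (p := T) (q := fun r => T r ∧ n ≤ f r) (m := fun r => T r ∧ n + 1 ≤ f r) h fun r s hr hs =>
    ⟨(c r s hr hs.1).1, fun u hu => ⟨((c r s hr hs.1).2 u hu).1, hs.2.trans_lt ((c r s hr hs.1).2 u hu).2.2⟩⟩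

theorem Rel.FF_add (h : Rel X cm) (c : Ch cm T w) (a b : ℤ) :
    ⁅FF X T (fw w) a, FF X T (fw w) b⁆ ≤ FF X T (fw w) (a + b) :=
  comm_GS ((FF_le X T _ a).trans (h.FF_norm (h.wt c) _)) ((FF_le X T _ b).trans (h.FF_norm (h.wt c) _))
    fun _ _ => xx (p := fun r => T r ∧ a ≤ fw w r) (q := fun r => T r ∧ b ≤ fw w r)
      (m := fun r => T r ∧ a + b ≤ fw w r) h fun r s hr hs => ⟨(h.wt c r s hr.1 hs.1).1, fun u hu => ⟨c.2.2 r s hr.1 hs.1 u hu,
      (add_le_add hr.2 hs.2).trans (add_le h (c.2.1 r hr.1) (c.2.1 s hs.1) hu)⟩⟩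

theorem Rel.FF_sq (h : Rel X cm) (c : Wt cm T f) {n : ℤ} {g : G} (hg : g ∈ FF X T f n) : g * g ∈ FF X T f (n + 1) := by
  let K : Subgroup G :=
    { carrier := {g | g ∈ FF X T f n ∧ g * g ∈ FF X T f (n + 1)}
      one_mem' := ⟨one_mem _, by rw [one_mul]; exact one_mem _⟩
      mul_mem' := fun {a b} ha hb => ⟨mul_mem ha.1 hb.1, by
        rw [show a * b * (a * b) = a * a * ⁅a⁻¹, b⁆ * (b * b) by rw [commutatorElement_def]; group]
        exact mul_mem (mul_mem ha.2 (h.FF_comm c n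
          (commutator_mem_commutator (FF_le X T f n (inv_mem ha.1)) hb.1))) hb.2⟩
      inv_mem' := fun {a} ha => ⟨inv_mem ha.1, by rw [← mul_inv_rev]; exact inv_mem ha.2⟩ }
  exact ((GS_le (H := K)).2 (fun r hr a ha => ⟨le_GS X hr ha, by rw [h.el r a ha]; exact one_mem _⟩) hg).2

theorem Flt.FF_succ (n : ℤ) : FF X T f n ≤ GS X (fun r => T r ∧ f r = n) ⊔ FF X T f (n + 1) := by
  rw [← GS_or]
  exact GS_mono X fun r hr => hr.2.eq_or_lt.imp (fun e => ⟨hr.1, e.symm⟩) fun e => ⟨hr.1, e⟩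

theorem Rel.peel (h : Rel X cm) (c : Wt cm T f) {n : ℤ} {g : G} (hg : g ∈ FF X T f n) :
    ∃ a ∈ GS X (fun r => T r ∧ f r = n), ∃ b ∈ FF X T f (n + 1), g = a * b := by
  obtain ⟨a, ha, b, hb, rfl⟩ := (mem_sup_norm' ((GS_mono X fun _ hr => hr.1).trans (h.FF_norm c _))).1 (FF_succ n hg)
  exact ⟨a, ha, b, hb, rfl⟩

theorem Rel.peel1 (h : Rel X cm) (c : Wt cm T f) {r : Rt} (hr : T r) (u : ∀ s, T s → f s = f r → s = r) {g : G}
    (hg : g ∈ FF X T f (f r)) : ∃ a ∈ X r, ∃ b ∈ FF X T f (f r + 1), g = a * b := by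
  obtain ⟨a, ha, b, hb, rfl⟩ := h.peel c hg
  exact ⟨a, GS_le.2 (fun s hs => by rw [u s hs.1 hs.2]) ha, b, hb, rfl⟩

theorem Rel.peel2 (h : Rel X cm) (c : Wt cm T f) {r s : Rt} (hr : T r) (hs : T s) (e : f s = f r)
    (u : ∀ q, T q → f q = f r → q = r ∨ q = s) {g : G} (hg : g ∈ FF X T f (f r)) :
    ∃ a ∈ X r, ∃ b ∈ X s, ∃ k ∈ FF X T f (f r + 1), g = a * b * k := by
  have h1 : FF X T f (f r) ≤ X r ⊔ (X s ⊔ FF X T f (f r + 1)) := by
    rw [← sup_assoc]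
    refine (FF_succ _).trans (sup_le_sup_right (GS_le.2 fun t ht => ?_) _)
    rcases u t ht.1 ht.2 with rfl | rfl
    exacts [le_sup_left, le_sup_right]
  have h2 : X r ≤ 𝐍[X s ⊔ FF X T f (f r + 1)] := by
    refine norm_of_comm_le (sup_le (e ▸ le_FF hs) (FF_anti X T f (Int.le_add_one le_rfl))) ?_
    rw [Subgroup.commutator_comm]
    exact ((commutator_mono (le_GS X hr) le_rfl).trans (h.FF_comm c _)).trans le_sup_right
  obtain ⟨a, ha, y, hy, rfl⟩ := (mem_sup_norm' h2).1 (h1 hg)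
  obtain ⟨b, hb, k, hk, rfl⟩ := (mem_sup_norm' ((le_GS X hs).trans (h.FF_norm c _))).1 hy
  exact ⟨a, ha, b, hb, k, hk, (mul_assoc _ _ _).symm⟩

/-- Downward induction along a filtration. -/
theorem FF_ind (X : Rt → Subgroup G) (T : Rt → Prop) (f : Rt → ℤ) {P : Subgroup G → Prop} (h0 : P ⊥)
    (hs : ∀ r, T r → P (FF X T f (f r + 1)) → P (FF X T f (f r))) (n : ℤ) : P (FF X T f n) := by
  obtain ⟨b, hb⟩ := FF_bot X T f
  rcases le_total b n with h | h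
  · rwa [hb n h]
  induction n, h using Int.le_induction_down with
  | base => rwa [hb b le_rfl]
  | pred n _ ih =>
    by_cases e : ∃ r, T r ∧ f r = n - 1
    · obtain ⟨r, hr, e⟩ := e
      rw [← e]
      exact hs r hr (by rwa [e, sub_add_cancel])
    · rwa [show FF X T f (n - 1) = FF X T f n from GS_congr X fun r => ⟨fun k => ⟨k.1, by
        have := k.2
        have : f r ≠ n - 1 := fun l => e ⟨r, k.1, l⟩
        omega⟩, fun k => ⟨k.1, by have := k.2; omega⟩⟩]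

/-- Induction on the leading term. -/
theorem Rel.lead_ind (h : Rel X cm) (c : Ch cm T w) {P : G → Prop} (n : ℤ) (h0 : ∀ g ∈ FF X T (fw w) n, P g)
    (hs : ∀ r, T r → fw w r < n → (∀ g ∈ FF X T (fw w) (fw w r + 1), P g) →
      ∀ a ∈ X r, a ≠ 1 → ∀ b ∈ FF X T (fw w) (fw w r + 1), P (a * b)) : ∀ g ∈ GS X T, P g := by
  obtain ⟨a, ha⟩ := FF_top X T (fw w)
  refine fun g hg => FF_ind X T (fw w) (P := fun H => ∀ g ∈ H, P g) (fun g hg => h0 g (bot_le (a := FF X T _ n) hg))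
    (fun r hr ih g hg => ?_) a g (ha hg)
  rcases le_or_gt n (fw w r) with k | k
  · exact h0 g (FF_anti X T _ k hg)
  obtain ⟨a, ha, b, hb, rfl⟩ := h.peel1 (h.wt c) hr (fun s _ => c.1.2 s r) hg
  by_cases a1 : a = 1
  · rw [a1, one_mul]; exact ih b hb
  · exact hs r hr k ih a ha a1 b hb

theorem Rel.exists_lead (h : Rel X cm) (c : Ch cm T w) {n : ℤ} {g : G} (hg : g ∈ GS X T) (h1 : g ∉ FF X T (fw w) n) :
    ∃ r, T r ∧ fw w r < n ∧ ∃ a ∈ X r, a ≠ 1 ∧ ∃ b ∈ FF X T (fw w) (fw w r + 1), g = a * b :=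
  h.lead_ind c (P := fun g => g ∉ FF X T (fw w) n →
      ∃ r, T r ∧ fw w r < n ∧ ∃ a ∈ X r, a ≠ 1 ∧ ∃ b ∈ FF X T (fw w) (fw w r + 1), g = a * b) n
    (fun _ a b => absurd a b) (fun r hr k _ a ha a1 b hb _ => ⟨r, hr, k, a, ha, a1, b, hb, rfl⟩) g hg h1

theorem Rel.exists_lead' (h : Rel X cm) (c : Ch cm T w) {g : G} (hg : g ∈ GS X T) (h1 : g ≠ 1) :
    ∃ r, T r ∧ ∃ a ∈ X r, a ≠ 1 ∧ ∃ b ∈ FF X T (fw w) (fw w r + 1), g = a * b := by
  obtain ⟨b, hb⟩ := FF_bot X T (fw w)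
  obtain ⟨r, hr, -, k⟩ := h.exists_lead c hg (n := b) (by rwa [hb b le_rfl])
  exact ⟨r, hr, k⟩

theorem Rel.pg (h : Rel X cm) (c : Wt cm T f) : IsPGroup 2 (GS X T) := by
  obtain ⟨a, ha⟩ := FF_top X T f
  refine (FF_ind X T f (P := fun H => IsPGroup 2 H) IsPGroup.of_bot (fun r _ ih => pg_iff.2 fun g hg => ?_) a).to_le ha
  obtain ⟨k, hk⟩ := pg_iff.1 ih _ (h.FF_sq c hg)
  exact ⟨k + 1, by rw [pow_succ', pow_mul, pow_two, hk]⟩

theorem Rel.lead (h : Rel X cm) (c : Ch cm T w) {a b g k : G} {i j : ℤ} (ha : a ∈ FF X T (fw w) i)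
    (hg : g ∈ FF X T (fw w) (i + 1)) (hb : b ∈ FF X T (fw w) j) (hk : k ∈ FF X T (fw w) (j + 1)) :
    ⁅a, b⁆⁻¹ * ⁅a * g, b * k⁆ ∈ FF X T (fw w) (i + j + 1) := by
  have N := h.FF_norm (h.wt c) (i + j + 1)
  have h1 := h.FF_add c _ _ (commutator_mem_commutator hg (mul_mem hb (FF_anti X T _ (Int.le_add_one le_rfl) hk)))
  have h2 := h.FF_add c _ _ (commutator_mem_commutator ha hk)
  rw [add_right_comm] at h1
  rw [← add_assoc] at h2
  have a' := FF_le X T _ _ ha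
  have b' := FF_le X T _ _ hb
  rw [show ⁅a, b⁆⁻¹ * ⁅a * g, b * k⁆ = (b * a * b⁻¹) * ⁅g, b * k⁆ * (b * a * b⁻¹)⁻¹ * (b * ⁅a, k⁆ * b⁻¹) by
    simp only [commutatorElement_def]; group]
  exact mul_mem (conj_mem_of_norm (N (mul_mem (mul_mem b' a') (inv_mem b'))) h1) (conj_mem_of_norm (N b') h2)

/-- If `X r` normalises `GS X (· ∈ l)`. -/
theorem Rel.mem_cons (h : Rel X cm) {r : Rt} {l : List Rt} (a : Ac cm (· = r) (· ∈ l) (· ∈ l)) {g : G} :
    g ∈ GS X (· ∈ r :: l) ↔ ∃ a ∈ X r, ∃ b ∈ GS X (· ∈ l), g = a * b := by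
  rw [GS_cons, mem_sup_norm' ((le_GS X (p := (· = r)) rfl).trans (h.norm a))]
  simp only [eq_comm]

theorem Fam.not_lead (h : Fam X x cm) (c : Ch cm T w) {r : Rt} {a : G} (ha : a ∈ X r) (a1 : a ≠ 1) :
    a ∉ FF X T (fw w) (fw w r + 1) := fun e =>
  a1 (h.ind w c.1 r a ha (GS_mono X (fun s hs => ⟨c.2.1 s hs.1, hs.2⟩) e))

theorem Fam.lead_uniq (h : Fam X x cm) (c : Ch cm T w) {r s : Rt} (hr : T r) (hs : T s) {a b a' b' : G} (ha : a ∈ X r)
    (a1 : a ≠ 1) (hb : b ∈ FF X T (fw w) (fw w r + 1)) (ha' : a' ∈ X s) (a1' : a' ≠ 1)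
    (hb' : b' ∈ FF X T (fw w) (fw w s + 1)) (e : a * b = a' * b') : r = s ∧ a = a' := by
  rcases lt_trichotomy (fw w r) (fw w s) with k | k | k
  · refine absurd ?_ (h.not_lead c ha a1)
    rw [eq_mul_inv_of_mul_eq e]
    exact mul_mem (mul_mem (FF_anti X T _ k (le_FF hs ha')) (FF_anti X T _ (by omega) hb')) (inv_mem hb)
  · obtain rfl := c.1.2 r s k
    refine ⟨rfl, by_contra fun l => h.not_lead c (mul_mem (inv_mem ha') ha) (fun l' => l (inv_mul_eq_one.1 l').symm) ?_⟩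
    rw [eq_mul_inv_of_mul_eq e, mul_assoc, inv_mul_cancel_left]
    exact mul_mem hb' (inv_mem hb)
  · refine absurd ?_ (h.not_lead c ha' a1')
    rw [eq_mul_inv_of_mul_eq e.symm]
    exact mul_mem (mul_mem (FF_anti X T _ k (le_FF hr ha)) (FF_anti X T _ (by omega) hb)) (inv_mem hb')

/-- Peel `a * b` inside `GS X I` and compare the leading roots in the positive chamber of `w`. -/
theorem Fam.mem_of_lead (h : Fam X x cm) (c : Ch cm T w) (cI : Ch cm I w) {r : Rt} (hr : T r) {a b : G} (ha : a ∈ X r)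
    (a1 : a ≠ 1) (hb : b ∈ FF X T (fw w) (fw w r + 1)) (hI : a * b ∈ GS X I) : I r := by
  obtain ⟨s, hs, a', ha', a1', b', hb', e⟩ := h.exists_lead' cI hI fun e =>
    h.not_lead c ha a1 (eq_inv_of_mul_eq_one_left e ▸ inv_mem hb)
  rwa [(h.lead_uniq (h.ch_pos c.1) (c.2.1 r hr) (cI.2.1 s hs) ha a1 (FF_pos c _ hb) ha' a1' (FF_pos cI _ hb') e).1]

theorem Fam.of_mem (h : Fam X x cm) (cI : Ch cm I w) {r : Rt} {a : G} (ha : a ∈ X r) (a1 : a ≠ 1) (hI : a ∈ GS X I) :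
    I r := by
  rcases lt_or_ge 0 (fw w r) with k | k
  · exact h.mem_of_lead (h.ch_pos cI.1) cI k ha a1 (one_mem _) (by rwa [mul_one])
  · exact absurd (GS_mono X (fun s hs => ⟨hs, by have := cI.2.1 s hs; omega⟩) hI) (h.not_lead cI ha a1)

theorem Fam.inf (h : Fam X x cm) (c1 : Ch cm p w) (c2 : Ch cm q w) : GS X p ⊓ GS X q = GS X fun r => p r ∧ q r := by
  refine le_antisymm (fun g hg => ?_) (le_inf (GS_mono X fun _ => And.left) (GS_mono X fun _ => And.right))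
  obtain ⟨n, hn⟩ := FF_bot X p (fw w)
  refine h.lead_ind c1 (P := fun g => g ∈ GS X q → g ∈ GS X fun r => p r ∧ q r) n
    (fun g hg _ => bot_le (a := GS X _) (hn n le_rfl ▸ hg)) (fun r hr _ ih a ha a1 b hb k => ?_) g hg.1 hg.2
  have hq := h.mem_of_lead c1 c2 hr ha a1 hb k
  exact mul_mem (le_GS X (p := fun r => p r ∧ q r) ⟨hr, hq⟩ ha) (ih b hb ((mul_mem_cancel_left (le_GS X hq ha)).1 k))

theorem Fam.lead_nz (h : Fam X x cm) (c : Ch cm T w) {r s : Rt} (hr : T r) (hs : T s) (hc : cm1 r s ≠ []) {a g : G}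
    (ha : a ∈ X r) (a1 : a ≠ 1) (hg : g ∈ FF X T (fw w) (fw w r + 1)) :
    T (ad r s) ∧ ∃ b ∈ X (ad r s), b ≠ 1 ∧ ∃ k ∈ FF X T (fw w) (fw w (ad r s) + 1), ⁅a * g, x s⁆ = b * k := by
  have p1 := c.2.1 r hr
  have p2 := c.2.1 s hs
  obtain ⟨b, hb, b1, k⟩ := h.nz r s hc a ha a1
  have e0 : fw w (ad r s) = fw w r + fw w s :=
    ((fw_cm2 w p1 p2 (cm1_sub r s (cm1_head r s hc))).resolve_right fun l => l.1 rfl).2
  have e1 : ∀ u, u ∈ cm1 r s ∧ u ≠ ad r s → fw w (ad r s) < fw w u := fun u hu =>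
    e0 ▸ ((fw_cm2 w p1 p2 (cm1_sub r s hu.1)).resolve_left fun l => hu.2 l.1).2
  have e2 : ∀ u ∈ cm1 r s, T u := by
    rcases h.sub r s with e | e
    · have := h.rel r s (h.wt c r s hr hs).1 (commutator_mem_commutator ha (h.mem s))
      rw [e, GS_nil, mem_bot] at this
      rw [this, mul_one, inv_mem_iff] at k
      exact absurd (h.ind w c.1 _ b hb (GS_mono X (fun u hu => ⟨by have := e1 u hu; omega, e1 u hu⟩) k)) b1
    · exact fun u hu => c.2.2 r s hr hs u (e ▸ cm1_sub r s hu)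
  have l := h.lead c (le_FF hr ha) hg (le_FF hs (h.mem s)) (one_mem _)
  rw [mul_one, ← e0] at l
  exact ⟨e2 _ (cm1_head r s hc), b, hb, b1, _, mul_mem (GS_mono X (fun u hu => ⟨e2 u hu.1, e1 u hu⟩) k) l, by group⟩

/-- Induct on the leading term of `g` in `T`: a leading root in `J` is stripped, for another one `lead_nz` in the whole
chamber `0 < fw w ·` and `mem_of_lead` give a contradiction. -/
theorem Fam.cen_mod (h : Fam X x cm) (c : Ce cm w T S J I) {g : G} (hg : g ∈ GS X T)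
    (hc : ∀ s, S s → ⁅g, x s⁆ ∈ GS X I) : g ∈ GS X J := by
  obtain ⟨cT, cI, a1, a2, a3⟩ := c
  obtain ⟨n, hn⟩ := FF_bot X T (fw w)
  refine h.lead_ind cT (P := fun g => (∀ s, S s ∧ 0 < fw w s → ⁅g, x s⁆ ∈ GS X I) → g ∈ GS X J) n
    (fun g hg _ => bot_le (a := GS X _) (hn n le_rfl ▸ hg)) (fun r hr _ ih a ha a0 b hb k => ?_) g hg
    fun s hs => hc s hs.1
  rcases a3 r hr with hJ | ⟨s, hs, h1, h2⟩
  · refine mul_mem (le_GS X hJ ha) (ih b hb fun s hs => ?_)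
    have h3 := conj_mem_of_norm' (h.norm a1 (le_GS X hr ha)) (mul_mem (k s hs)
      (inv_mem (xx h.toRel a2 ⟨hr, hJ⟩ hs (commutator_mem_commutator ha (h.mem s)))))
    convert h3 using 1
    simp only [commutatorElement_def]
    group
  · have c0 := h.ch_pos cT.1
    obtain ⟨t, b', hb', b1, k', hk', e⟩ := h.lead_nz c0 (cT.2.1 r hr) hs.2 h1 ha a0 (FF_pos cT _ hb)
    exact absurd (h.mem_of_lead c0 cI t hb' b1 hk' (e ▸ k s hs)) h2

theorem Fam.cen (h : Fam X x cm) (c : Ce cm w T S J fun _ => False) {g : G} (hg : g ∈ GS X T)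
    (hc : ∀ s, S s → Commute g (x s)) : g ∈ GS X J :=
  h.cen_mod c hg fun s hs => by rw [(hc s hs).commutator_eq]; exact one_mem _

end Cfsg.Agent.P8
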