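import Mathlib
import Cfsg.Agent.P8.Flt

/-! P8-Flt2: orders of subgroups along chains, free actions of an involution -/

set_option autoImplicit false
set_option linter.unusedSectionVars false

namespace Cfsg.Agent.P8

open Cfsg Cfsg.Lie Cfsg.Agent.Loc.Mss Subgroup
open Cfsg.Agent.StdB (C1 mem_C1)
open scoped commutatorElement

variable {G : Type*} [Group G] [Finite G]

theorem Flt2.two_mul_le {A B : Subgroup G} (h : A ≤ B) {g : G} (hg : g ∈ B) (hn : g ∉ A) :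
    2 * Nat.card A ≤ Nat.card B := by
  obtain ⟨k, hk⟩ := card_dvd_of_le h
  have h0 : 0 < Nat.card B := Nat.card_pos
  have h1 : k ≠ 1 := fun e => hn (by
    rw [e, mul_one] at hk
    exact (eq_of_le_of_card_ge h hk.le) ▸ hg)
  have h2 : k ≠ 0 := fun e => by simp [e] at hk; omega
  rw [hk, mul_comm]
  exact Nat.mul_le_mul_left _ (by omega)

theorem Flt2.card_rel (A B : Subgroup G) : B.relIndex A * Nat.card ↥(A ⊓ B) = Nat.card A := by
  rw [← index_mul_card (B.subgroupOf A), ← inf_subgroupOf_left B A,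
    Nat.card_congr (subgroupOfEquivOfLe (inf_le_left : A ⊓ B ≤ A)).toEquiv, inf_subgroupOf_left]
  rfl

open Flt2

theorem card_ge_chain {R : Subgroup G} (H : ℕ → Subgroup G) (m : ℕ) (ha : ∀ i < m, H (i + 1) ≤ H i)
    (h : ∀ i < m, ∃ g ∈ R, g ∈ H i ∧ g ∉ H (i + 1)) : 2 ^ m ≤ Nat.card R := by
  have key : ∀ j ≤ m, 2 ^ j * Nat.card ↥(R ⊓ H j) ≤ Nat.card R := fun j hj => by
    induction j with
    | zero => simpa using card_le_of_le (inf_le_left : R ⊓ H 0 ≤ R)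
    | succ j ih =>
      obtain ⟨g, g1, g2, g3⟩ := h j hj
      have := two_mul_le (inf_le_inf_left R (ha j hj)) ⟨g1, g2⟩ fun e => g3 e.2
      rw [pow_succ, mul_assoc]
      exact (Nat.mul_le_mul_left _ this).trans (ih (by omega))
  exact (Nat.le_mul_of_pos_right _ Nat.card_pos).trans (key m le_rfl)

/-- A subgroup of index at most two. -/
theorem card_le_two_mul {A B : Subgroup G} (h : ∀ a ∈ A, ∀ b ∈ A, a ∈ B ∨ b ∈ B ∨ a⁻¹ * b ∈ B) :
    Nat.card A ≤ 2 * Nat.card ↥(A ⊓ B) := by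
  rw [← card_rel A B]
  refine Nat.mul_le_mul_right _ (Nat.le_of_dvd two_pos (index_dvd_two_iff.2 ?_))
  by_cases e : ∃ a ∈ A, a ∉ B
  · obtain ⟨a, ha, n⟩ := e
    refine ⟨⟨a, ha⟩, fun b => ?_⟩
    rcases h _ (inv_mem b.2) a ha with k | k | k
    · exact Or.inr (inv_mem_iff.1 k)
    · exact absurd k n
    · exact Or.inl (by rwa [inv_inv] at k)
  · push Not at e
    exact ⟨1, fun b => Or.inr (e _ b.2)⟩

theorem card_le_chain {R : Subgroup G} (H : ℕ → Subgroup G) (m : ℕ) (h0 : R ≤ H 0) (hm : R ⊓ H m = ⊥)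
    (ha : ∀ i < m, H (i + 1) ≤ H i)
    (h : ∀ i < m, ∀ a ∈ R, ∀ b ∈ R, a ∈ H i → b ∈ H i → a ∈ H (i + 1) ∨ b ∈ H (i + 1) ∨ a⁻¹ * b ∈ H (i + 1)) :
    Nat.card R ≤ 2 ^ m := by
  have key : ∀ j ≤ m, Nat.card R ≤ 2 ^ j * Nat.card ↥(R ⊓ H j) := fun j hj => by
    induction j with
    | zero => rw [inf_of_le_left h0]; simp
    | succ j ih =>
      have := card_le_two_mul (A := R ⊓ H j) (B := H (j + 1)) fun a ha b hb => h j hj a ha.1 b hb.1 ha.2 hb.2
      rw [inf_assoc, inf_of_le_right (ha j hj)] at this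
      rw [pow_succ, mul_assoc]
      exact (ih (by omega)).trans (Nat.mul_le_mul_left _ this)
  simpa [hm] using key m le_rfl

variable {P : ℕ → Subgroup G} {N : ℕ} {τ : G}

namespace Flt2

theorem mono (h : Free P N τ) : Antitone P := antitone_nat_of_succ_le h.anti

theorem le0 (h : Free P N τ) (n : ℕ) : P n ≤ P 0 := mono h (Nat.zero_le n)

theorem nrm0 (h : Free P N τ) (n : ℕ) : P 0 ≤ 𝐍[P n] :=
  le_normalizer_iff_commutator_le_left.2 (by rw [Subgroup.commutator_comm]; exact (h.comm n).trans (h.anti n))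

theorem t_inv (h : Free P N τ) : τ⁻¹ = τ := inv_eq_of_mul_eq_one_right h.tt

theorem down (h : Free P N τ) {Q : ℕ → Prop} (h0 : ∀ n, P n = ⊥ → Q n) (hs : ∀ n, Q (n + 1) → Q n) (n : ℕ) :
    Q n := by
  rcases le_total N n with k | k
  · exact h0 n (le_bot_iff.1 ((mono h k).trans h.bot.le))
  · induction k using Nat.decreasingInduction with
    | self => exact h0 _ h.bot
    | of_succ k _ ih => exact hs k ih

theorem comm_mem (h : Free P N τ) {n : ℕ} {a : G} (ha : a ∈ P n) : ⁅τ, a⁆ ∈ P n :=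
  mul_mem (conj_mem_of_norm (h.nrm n) ha) (inv_mem ha)

end Flt2

/-- Push `u` down the chain by conjugating `τ * u`. -/
theorem Free.conj' (h : Free P N τ) {n : ℕ} {u : G} (hu : u ∈ P n) (h2 : τ * u * (τ * u) = 1) :
    ∃ b ∈ P n, τ * u = b * τ * b⁻¹ := by
  induction n using down h generalizing u with
  | h0 n e =>
    rw [e, mem_bot] at hu
    exact ⟨1, one_mem _, by simp [hu]⟩
  | hs n ih =>
    have e1 : ⁅τ, u⁆ = (u * u)⁻¹ := by
      rw [commutatorElement_def, t_inv h, eq_inv_iff_mul_eq_one, ← h2]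
      group
    obtain ⟨b, hb, k⟩ := h.free n u hu (e1 ▸ inv_mem (h.sq n u hu))
    have hb' : τ * b * τ⁻¹ ∈ P n := conj_mem_of_norm (h.nrm n) hb
    have k' : τ * b * τ⁻¹ * u * b⁻¹ ∈ P (n + 1) := by
      rw [show τ * b * τ⁻¹ * u * b⁻¹ = ⁅τ * b * τ⁻¹, u⁆ * (u * ⁅τ, b⁆) by
        simp only [commutatorElement_def]; group]
      exact mul_mem (h.comm n (commutator_mem_commutator (le0 h n hb') hu)) k
    have e2 : τ * (τ * b * τ⁻¹ * u * b⁻¹) = b * (τ * u) * b⁻¹ := by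
      rw [t_inv h, ← mul_assoc, ← mul_assoc, ← mul_assoc, ← mul_assoc, h.tt, one_mul, mul_assoc b]
    obtain ⟨c, hc, e⟩ := ih k' (by rw [e2, conj_mul, h2]; simp)
    refine ⟨b⁻¹ * c, mul_mem (inv_mem hb) (h.anti n hc), ?_⟩
    rw [e2] at e
    calc τ * u = b⁻¹ * (b * (τ * u) * b⁻¹) * b := by group
      _ = _ := by rw [e]; group

theorem Free.conj (h : Free P N τ) {u : G} (hu : u ∈ P 0) (h2 : τ * u * (τ * u) = 1) :
    ∃ b ∈ P 0, τ * u = b * τ * b⁻¹ := h.conj' hu h2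

theorem Free.lift (h : Free P N τ) {n : ℕ} {y : G} (hy : y ∈ P 0) (hc : ⁅τ, y⁆ ∈ P n) :
    ∃ b ∈ P n, Commute τ (y * b) := by
  have hu : y⁻¹ * ⁅τ, y⁆⁻¹ * y ∈ P n := conj_mem_of_norm' (nrm0 h n hy) (inv_mem hc)
  have e : τ * (y⁻¹ * ⁅τ, y⁆⁻¹ * y) = y⁻¹ * τ * y := by
    calc τ * (y⁻¹ * ⁅τ, y⁆⁻¹ * y) = τ * τ * (y⁻¹ * τ⁻¹ * y) := by
          simp only [commutatorElement_def]; group
      _ = _ := by rw [h.tt, one_mul, t_inv h]
  obtain ⟨b, hb, k⟩ := h.conj' hu (by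
    rw [e]
    calc y⁻¹ * τ * y * (y⁻¹ * τ * y) = y⁻¹ * (τ * τ) * y := by group
      _ = 1 := by rw [h.tt]; simp)
  refine ⟨b, hb, ?_⟩
  rw [e] at k
  calc τ * (y * b) = y * (y⁻¹ * τ * y) * b := by group
    _ = y * b * τ := by rw [k]; group

theorem Flt2.step (h : Free P N τ) (n : ℕ) : ∃ r, Nat.card (P n) = r * r * Nat.card (P (n + 1)) ∧
    Nat.card ↥(P n ⊓ C1 τ) = r * Nat.card ↥(P (n + 1) ⊓ C1 τ) := by
  let M : Subgroup (P n) := (P (n + 1)).subgroupOf (P n)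
  have : M.Normal := normal_subgroupOf_of_le_normalizer ((le0 h n).trans (nrm0 h _))
  let π : P n →* P n ⧸ M := QuotientGroup.mk' M
  have hπ : ∀ a b : P n, π a = π b ↔ (a : G)⁻¹ * b ∈ P (n + 1) := fun a b => QuotientGroup.eq
  let φ : P n →* P n ⧸ M := MonoidHom.mk' (fun a => π ⟨⁅τ, a⁆, comm_mem h a.2⟩) fun a b => by
    rw [← map_mul, eq_comm, hπ]
    show (⁅τ, (a : G)⁆ * ⁅τ, (b : G)⁆)⁻¹ * ⁅τ, (a : G) * b⁆ ∈ _
    rw [show (⁅τ, (a : G)⁆ * ⁅τ, (b : G)⁆)⁻¹ * ⁅τ, (a : G) * b⁆ = ⁅(a : G), ⁅τ, (b : G)⁆⁻¹⁆⁻¹ by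
      simp only [commutatorElement_def]; group]
    exact inv_mem (h.comm n (commutator_mem_commutator (le0 h n a.2) (inv_mem (comm_mem h b.2))))
  have hk : ∀ a : P n, φ a = 1 ↔ ⁅τ, (a : G)⁆ ∈ P (n + 1) := fun a => QuotientGroup.eq_one_iff _
  have cc : ∀ a : G, a ∈ P n → ⁅τ, ⁅τ, a⁆⁆ ∈ P (n + 1) := fun a ha => by
    rw [show ⁅τ, ⁅τ, a⁆⁆ = (⁅τ, a⁆ * ⁅τ, a⁆)⁻¹ by
      have : τ * ⁅τ, a⁆ * τ⁻¹ = ⁅τ, a⁆⁻¹ := by
        calc τ * ⁅τ, a⁆ * τ⁻¹ = τ * τ * a * τ⁻¹ * a⁻¹ * τ⁻¹ := by simp only [commutatorElement_def]; group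
          _ = a * τ * a⁻¹ * τ⁻¹ := by rw [h.tt, one_mul, t_inv h]
          _ = _ := by simp only [commutatorElement_def]; group
      rw [commutatorElement_def τ ⁅τ, a⁆, this, mul_inv_rev]]
    exact inv_mem (h.sq n _ (comm_mem h ha))
  have e1 : φ.ker = φ.range.comap π := by
    ext a
    rw [MonoidHom.mem_ker, hk, mem_comap]
    constructor
    · intro ha
      obtain ⟨b, hb, k⟩ := h.free n a a.2 ha
      refine ⟨⟨b, hb⟩⁻¹, ?_⟩
      rw [map_inv, eq_comm, eq_inv_iff_mul_eq_one]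
      exact (QuotientGroup.eq_one_iff (N := M) (a * ⟨⁅τ, b⁆, comm_mem h hb⟩)).2 k
    · rintro ⟨b, hb⟩
      have k := (hπ _ _).1 hb
      change ⁅τ, (b : G)⁆⁻¹ * a ∈ _ at k
      have k1 := comm_mem h k
      rw [show ⁅τ, (a : G)⁆ = ⁅τ, ⁅τ, (b : G)⁆⁆ * (⁅τ, (b : G)⁆ * ⁅τ, ⁅τ, (b : G)⁆⁻¹ * a⁆ * ⁅τ, (b : G)⁆⁻¹) by
        simp only [commutatorElement_def]; group]
      exact mul_mem (cc _ b.2) (conj_mem_of_norm (nrm0 h _ (le0 h n (comm_mem h b.2))) k1)
  have e2 : φ.range = ((P n ⊓ C1 τ).subgroupOf (P n)).map π := by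
    ext y
    obtain ⟨a, rfl⟩ := QuotientGroup.mk'_surjective M y
    change a ∈ φ.range.comap π ↔ _
    rw [← e1, MonoidHom.mem_ker, hk]
    constructor
    · intro ha
      obtain ⟨b, hb, k⟩ := h.lift (le0 h n a.2) ha
      refine ⟨a * ⟨b, h.anti n hb⟩, mem_subgroupOf.2 ⟨mul_mem a.2 (h.anti n hb), mem_C1.2 k.eq.symm⟩,
        ((hπ _ _).2 ?_).symm⟩
      simpa using hb
    · rintro ⟨c, hc, e⟩
      have k := (hπ _ _).1 e
      have k1 := comm_mem h k
      have k2 : (c : G) * τ = τ * c := mem_C1.1 hc.2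
      rw [show ⁅τ, (a : G)⁆ = (τ * c * τ⁻¹ * (c : G)⁻¹) * (c * ⁅τ, (c : G)⁻¹ * a⁆ * (c : G)⁻¹) by
        simp only [commutatorElement_def]; group, ← k2, mul_inv_cancel_right, mul_inv_cancel, one_mul]
      exact conj_mem_of_norm (nrm0 h _ (le0 h n c.2)) k1
  refine ⟨Nat.card φ.range, ?_, ?_⟩
  · have i1 : φ.range.index = Nat.card φ.range := by
      rw [← index_comap_of_surjective _ (QuotientGroup.mk'_surjective M), ← index_ker]
      exact congrArg index e1.symm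
    rw [card_eq_card_quotient_mul_card_subgroup M, ← index_mul_card φ.range, i1,
      Nat.card_congr (subgroupOfEquivOfLe (h.anti n)).toEquiv]
  · rw [e2, ← relIndex_ker, QuotientGroup.ker_mk', relIndex_subgroupOf inf_le_left, ← card_rel _ (P (n + 1)),
      inf_right_comm, inf_of_le_right (h.anti n)]

/-- Downward induction: `|P n| = |C_{P n}(τ)| ^ 2`.  In the factor `V = P n / P (n+1)` kernel and image of `1 + τ`
coincide, and by `lift` the kernel is the image of `C_{P n}(τ)`. -/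
theorem Free.card (h : Free P N τ) : Nat.card (P 0) = Nat.card ↥(P 0 ⊓ C1 τ) ^ 2 := by
  refine down h (Q := fun n => Nat.card (P n) = Nat.card ↥(P n ⊓ C1 τ) ^ 2) (fun n e => by simp [e])
    (fun n ih => ?_) 0
  obtain ⟨r, h1, h2⟩ := step h n
  rw [h1, h2, ih]
  ring

variable {X : Rt → Subgroup G} {x : Rt → G} {cm : Rt → Rt → List Rt} {T : Rt → Prop} {w : ℤ × ℤ × ℤ × ℤ}

theorem Flt2.lead_step (h : Fam X x cm) (c : Ch cm T w) (R : Subgroup G) {r : Rt} (hr : T r) :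
    Nat.card ↥(R ⊓ FF X T (fw w) (fw w r)) =
      Nat.card ↥(X r ⊓ ((R ⊓ FF X T (fw w) (fw w r)) ⊔ FF X T (fw w) (fw w r + 1))) *
        Nat.card ↥(R ⊓ FF X T (fw w) (fw w r + 1)) := by
  have hB : FF X T (fw w) (fw w r + 1) ≤ FF X T (fw w) (fw w r) := FF_anti X T _ (Int.le_add_one le_rfl)
  have hN := h.FF_norm (h.wt c) (fw w r + 1)
  set B := FF X T (fw w) (fw w r + 1)
  set A := R ⊓ FF X T (fw w) (fw w r) with hA
  have h1 := GT.PG.card_sup_mul_card_inf (H := A) (N := B) (inf_le_right.trans ((FF_le X T _ _).trans hN))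
  have h2 := GT.PG.card_sup_mul_card_inf (H := X r ⊓ (A ⊔ B)) (N := B)
    (inf_le_left.trans ((le_GS X hr).trans hN))
  have h3 : X r ⊓ (A ⊔ B) ⊔ B = A ⊔ B := by
    refine le_antisymm (sup_le inf_le_right le_sup_right) fun g hg => ?_
    obtain ⟨a, ha, b, hb, rfl⟩ := h.peel1 (h.wt c) hr (fun s _ => c.1.2 s r) (sup_le inf_le_right hB hg)
    exact mul_mem (mem_sup_left ⟨ha, (mul_mem_cancel_right (mem_sup_right hb)).1 hg⟩) (mem_sup_right hb)
  have h4 : X r ⊓ (A ⊔ B) ⊓ B = ⊥ := eq_bot_iff.2 fun g hg => by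
    by_contra e
    exact h.not_lead c hg.1.1 e hg.2
  have h5 : A ⊓ B = R ⊓ B := by rw [hA, inf_assoc, inf_of_le_right hB]
  rw [h3, h4, card_bot, mul_one] at h2
  rw [h2, h5, mul_right_comm] at h1
  exact (Nat.eq_of_mul_eq_mul_right Nat.card_pos h1).symm

/-- The order of a subgroup is the product of the orders of its groups of leading terms. -/
theorem Fam.card_lead [DecidablePred T] (h : Fam X x cm) (c : Ch cm T w) {R : Subgroup G} (hR : R ≤ GS X T) :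
    Nat.card R = ∏ r ∈ Finset.univ.filter T,
      Nat.card ↥(X r ⊓ ((R ⊓ FF X T (fw w) (fw w r)) ⊔ FF X T (fw w) (fw w r + 1))) := by
  obtain ⟨a, b, hab⟩ := Flt.bd (fw w)
  have key : ∀ n ≤ b, Nat.card ↥(R ⊓ FF X T (fw w) n) = ∏ r ∈ Finset.univ.filter fun r => T r ∧ n ≤ fw w r,
      Nat.card ↥(X r ⊓ ((R ⊓ FF X T (fw w) (fw w r)) ⊔ FF X T (fw w) (fw w r + 1))) := fun n hn => by
    induction n, hn using Int.le_induction_down with
    | base =>
      have : ∀ r, ¬ (T r ∧ b ≤ fw w r) := fun r hr => absurd hr.2 (hab r).2.not_ge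
      rw [show FF X T (fw w) b = ⊥ from GS_eq_bot X this, Finset.filter_false_of_mem fun r _ => this r]
      simp
    | pred n _ ih =>
      by_cases e : ∃ r, T r ∧ fw w r = n - 1
      · obtain ⟨r, hr, e⟩ := e
        have e' : n = fw w r + 1 := by omega
        subst e'
        rw [← e, show (Finset.univ.filter fun s => T s ∧ fw w r ≤ fw w s) =
          insert r (Finset.univ.filter fun s => T s ∧ fw w r + 1 ≤ fw w s) by
            ext s
            simp only [Finset.mem_filter, Finset.mem_univ, true_and, Finset.mem_insert]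
            refine ⟨fun k => ?_, ?_⟩
            · rcases k.2.eq_or_lt with l | l
              exacts [Or.inl (c.1.2 s r l.symm), Or.inr ⟨k.1, l⟩]
            · rintro (rfl | k)
              exacts [⟨hr, le_rfl⟩, ⟨k.1, by have := k.2; omega⟩],
          Finset.prod_insert (by simp), ← ih, lead_step h c R hr]
      · have : ∀ r, T r ∧ n - 1 ≤ fw w r ↔ T r ∧ n ≤ fw w r := fun r => ⟨fun k => ⟨k.1, by
          have := k.2
          have : fw w r ≠ n - 1 := fun l => e ⟨r, k.1, l⟩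
          omega⟩, fun k => ⟨k.1, by have := k.2; omega⟩⟩
        rw [show FF X T (fw w) (n - 1) = FF X T (fw w) n from GS_congr X this, ih]
        exact Finset.prod_congr (Finset.filter_congr fun r _ => (this r).symm) fun _ _ => rfl
  have := key a ((hab 0).1.trans (hab 0).2.le)
  rw [inf_of_le_left (hR.trans (GS_mono X fun r hr => ⟨hr, (hab r).1⟩))] at this
  rw [this]
  exact Finset.prod_congr (Finset.filter_congr fun r _ => ⟨And.left, fun k => ⟨k, (hab r).1⟩⟩) fun _ _ => rfl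

theorem Fam.card [DecidablePred T] (h : Fam X x cm) (c : Ch cm T w) :
    Nat.card (GS X T) = ∏ r ∈ Finset.univ.filter T, Nat.card (X r) := by
  rw [h.card_lead c le_rfl]
  refine Finset.prod_congr rfl fun r hr => ?_
  have hr := (Finset.mem_filter.1 hr).2
  rw [inf_of_le_left ((le_inf (le_GS X hr) (Flt.le_FF hr)).trans le_sup_left)]

theorem Flt2.ge_prod (h : Fam X x cm) (c : Ch cm T w) (R : Subgroup G) (s : Finset Rt) (g : Rt → ℕ)
    (hs : ∀ q ∈ s, T q ∧ g q ≤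
      Nat.card ↥(X q ⊓ ((R ⊓ GS X T ⊓ FF X T (fw w) (fw w q)) ⊔ FF X T (fw w) (fw w q + 1)))) :
    ∏ q ∈ s, g q ≤ Nat.card R := by
  classical
  refine le_trans ?_ (card_le_of_le (inf_le_left : R ⊓ GS X T ≤ R))
  rw [h.card_lead c inf_le_right]
  exact (Finset.prod_le_prod' fun q hq => (hs q hq).2).trans
    (Finset.prod_le_prod_of_subset_of_one_le' (fun q hq => Finset.mem_filter.2 ⟨Finset.mem_univ _, (hs q hq).1⟩)
      fun _ _ _ => Nat.card_pos)

theorem Flt2.mem_lead {R : Subgroup G} {q : Rt} (hq : T q) {b k : G} (hb : b ∈ X q)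
    (hk : k ∈ FF X T (fw w) (fw w q + 1)) (m : b * k ∈ R) :
    b ∈ X q ⊓ ((R ⊓ GS X T ⊓ FF X T (fw w) (fw w q)) ⊔ FF X T (fw w) (fw w q + 1)) := by
  have h1 : b * k ∈ FF X T (fw w) (fw w q) := mul_mem (Flt.le_FF hq hb) (FF_anti X T _ (Int.le_add_one le_rfl) hk)
  exact ⟨hb, (mul_mem_cancel_right (mem_sup_right hk)).1 (mem_sup_left ⟨⟨m, FF_le X T _ _ h1⟩, h1⟩)⟩

theorem Flt2.two_le {A : Subgroup G} {b : G} (hb : b ∈ A) (b1 : b ≠ 1) : 2 ≤ Nat.card A := by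
  simpa using two_mul_le (bot_le : ⊥ ≤ A) hb b1

theorem Fam.card_ge (h : Fam X x cm) (c : Ch cm T w) {R : Subgroup G} (l : List Rt) (hl : l.Nodup)
    (hq : ∀ q ∈ l, T q ∧ ∃ b ∈ X q, b ≠ 1 ∧ ∃ k ∈ FF X T (fw w) (fw w q + 1), b * k ∈ R) :
    2 ^ l.length ≤ Nat.card R := by
  have := ge_prod h c R l.toFinset (fun _ => 2) fun q hq' => by
    obtain ⟨h1, b, hb, b1, k, hk, m⟩ := hq q (List.mem_toFinset.1 hq')
    exact ⟨h1, two_le (mem_lead h1 hb hk m) b1⟩
  rwa [Finset.prod_const, List.toFinset_card_of_nodup hl] at this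

/-- As `card_ge`, with a four-group of leading terms at the root `r`. -/
theorem Fam.card_ge' (h : Fam X x cm) (c : Ch cm T w) {R : Subgroup G} (l : List Rt) (hl : l.Nodup)
    (hq : ∀ q ∈ l, T q ∧ ∃ b ∈ X q, b ≠ 1 ∧ ∃ k ∈ FF X T (fw w) (fw w q + 1), b * k ∈ R) {r : Rt} (hr : r ∈ l)
    {b b' k k' : G} (hb : b ∈ X r) (hb' : b' ∈ X r) (b1 : b ≠ 1) (b1' : b' ≠ 1) (ne : b ≠ b')
    (hk : k ∈ FF X T (fw w) (fw w r + 1)) (hk' : k' ∈ FF X T (fw w) (fw w r + 1)) (m : b * k ∈ R) (m' : b' * k' ∈ R) :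
    2 ^ (l.length + 1) ≤ Nat.card R := by
  classical
  have := ge_prod h c R l.toFinset (fun q => 2 * if q = r then 2 else 1) fun q hq' => by
    obtain ⟨h1, a, ha, a1, y, hy, n⟩ := hq q (List.mem_toFinset.1 hq')
    refine ⟨h1, ?_⟩
    split_ifs with e
    · subst e
      refine (Nat.mul_le_mul_left 2 (two_le (mem_zpowers b) b1)).trans
        (two_mul_le (zpowers_le.2 (mem_lead h1 hb hk m)) (mem_lead h1 hb' hk' m') fun e => ?_)
      have e2 : orderOf b = 2 := orderOf_eq_prime (by rw [pow_two, h.el q b hb]) b1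
      rw [mem_zpowers_iff_mem_range_orderOf, e2] at e
      simp [Finset.range_add_one, b1', ne.symm] at e
    · exact two_le (mem_lead h1 ha hy n) a1
  rwa [Finset.prod_mul_distrib, Finset.prod_const, List.toFinset_card_of_nodup hl, Finset.prod_ite_eq',
    if_pos (List.mem_toFinset.2 hr), ← pow_succ] at this

end Cfsg.Agent.P8
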