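import Mathlib
import Cfsg.Agent.P8.Sig
import Cfsg.Agent.Rec.B8
import Cfsg.Agent.Rec.Sim
import Cfsg.Agent.Rec.SylTools

/-! P8-MD: codes of the root elements as 8 × 8 matrices over the field with two elements (definitions). -/

set_option autoImplicit false

namespace Cfsg.Agent.P8

open Cfsg.Agent.Spor Cfsg.Agent.Rec

/-- The codes of the root elements. -/
def cs : List ℕ := [nat_lit 0x8040211208040201, nat_lit 0x8041201408040201, nat_lit 0x8040209009040201, nat_lit 0x8140201808040201, nat_lit 0x8040205008050201, nat_lit 0x8040203008040301, nat_lit 0x8042241008040201, nat_lit 0x8040a0100a040201, nat_lit 0x8240281008040201, nat_lit 0x8040601008060201, nat_lit 0x80c020100c040201, nat_lit 0x8448201008040201, nat_lit 0x8040201048840201, nat_lit 0xc0402010080c0201, nat_lit 0x8060201008040601, nat_lit 0x8040201028048201, nat_lit 0xa040201008040a01, nat_lit 0x8040201008244201, nat_lit 0x8040301008040203, nat_lit 0x8050201008040205, nat_lit 0x8040201018040281, nat_lit 0x9040201008040209, nat_lit 0x8040201008140241, nat_lit 0x8040201008041221]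

/-- The code of the graph automorphism `s34`. -/
def cg : ℕ := nat_lit 0x840201080040201

/-- The positions of a characteristic entry. -/
def pv : List ℕ := [33, 34, 24, 35, 16, 8, 42, 25, 43, 17, 26, 51, 23, 19, 10, 15, 11, 14, 1, 2, 7, 3, 6, 5]

/-- The code of a root element. -/
noncomputable def cx (r : Rt) : ℕ := nth 0 cs r.val

/-- The code of a word in the root elements. -/
noncomputable def ev (l : List Rt) : ℕ :=
  List.rec B8.A.one (fun r _ ih => force ih fun b => B8.mul (cx r) b) l

/-- `f` holds for all `a * x r₁ ^ c₁ * ⋯ * x rₖ ^ cₖ`. -/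
noncomputable def allP (l : List Rt) (f : ℕ → Bool) : ℕ → Bool :=
  List.rec (motive := fun _ => ℕ → Bool) f (fun r _ ih a => band (ih a) (force (B8.mul a (cx r)) ih)) l

/-- Stripping of the root elements from the left. -/
noncomputable def sift (l : List Rt) : ℕ → Bool :=
  List.rec (motive := fun _ => ℕ → Bool) (fun a => Nat.beq a B8.A.one)
    (fun r _ ih a => Bool.rec (ih a) (force (B8.mul (cx r) a) ih) (Nat.testBit a (nth 0 pv r.val))) l

/-- The domain listing `XL l`. -/
noncomputable def dom (l : List Rt) : Dom := ⟨fun f => allP l f B8.A.one, sift l⟩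

/-- Every root of the list normalises the subgroup of the later ones. -/
def tails : List Rt → Bool
  | [] => true
  | r :: l => decide (Ac cm1 (· = r) (· ∈ l) (· ∈ l)) && tails l

/-- The check for `dom l` (it holds for closed lists sorted by a generic weight, e.g. sublists of `pl`). -/
noncomputable def okL (l : List Rt) : Bool := band (tails l) ((dom l).all (dom l).has)

/-- The positive roots sorted by `fw w0`. -/
def pl : List Rt := [18, 13, 12, 14, 19, 16, 21, 15, 20, 17, 22, 23]

/-- The roots of `Q` sorted by `fw w0`. -/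
def ql : List Rt := [14, 19, 16, 21, 15, 20, 17, 22, 23]

variable {G : Type*} [Group G]

/-- The list of the root elements. -/
abbrev Fr.xs (F : Fr G) : List G := [F.x 0, F.x 1, F.x 2, F.x 3, F.x 4, F.x 5, F.x 6, F.x 7, F.x 8, F.x 9, F.x 10, F.x 11, F.x 12, F.x 13, F.x 14, F.x 15, F.x 16, F.x 17, F.x 18, F.x 19, F.x 20, F.x 21, F.x 22, F.x 23]

/-- A word in the root elements. -/
def Fr.wd (F : Fr G) (l : List Rt) : G := (l.map F.x).prod

theorem Fr.v0 (F : Fr G) : F.v 0 = F.x 20 * F.x 21 := rfl
theorem Fr.v1 (F : Fr G) : F.v 1 = F.x 21 * F.x 17 := rfl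
theorem Fr.v2 (F : Fr G) : F.v 2 = F.x 17 * F.x 20 := rfl

theorem Fr.U_eq (F : Fr G) : F.U = F.XL pl := GS_congr _ (by decide +kernel)
theorem Fr.Q_eq (F : Fr G) : F.Q = F.XL ql := GS_congr _ (by decide +kernel)

theorem okU : okL pl = true := by decide +kernel
theorem okQ : okL ql = true := by decide +kernel

end Cfsg.Agent.P8
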